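import Mathlib
import Cfsg.Agent.Lib.FTHM.Tables

/-!
# The two five-dimensional tables over the field with three elements
-/

set_option autoImplicit false
set_option Elab.async false
set_option synthInstance.maxSize 2000

namespace CfsgLib.FTHM

open Cfsg Subgroup CfsgLib.ThreeTrans CfsgLib.Orth QuadraticMap Module
open CfsgLib.Classical (GF4)

/-- the vector with a given code -/
def vc5 (n : ℕ) : Fin 5 → ZMod 3 := fun i => (n / 3 ^ i.val : ℕ)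

/-- the code of a vector -/
def cd5 (v : Fin 5 → ZMod 3) : ℕ := (v 0).val + 3 * (v 1).val + 9 * (v 2).val + 27 * (v 3).val + 81 * (v 4).val

theorem exists_vc5 (v : Fin 5 → ZMod 3) : ∃ n < 243, vc5 n = v := by
  have key : ∀ a b c d e : ZMod 3, cd5 ![a, b, c, d, e] < 243 ∧ vc5 (cd5 ![a, b, c, d, e]) = ![a, b, c, d, e] := by
    decide +kernel
  have e : v = ![v 0, v 1, v 2, v 3, v 4] := by ext i; fin_cases i <;> rfl
  exact ⟨_, (key _ _ _ _ _).1, (key _ _ _ _ _).2.trans e.symm⟩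

theorem cd5_vc5 : ∀ n < 243, cd5 (vc5 n) = n := by decide +kernel

theorem vc5_inj {n m : ℕ} (hn : n < 243) (hm : m < 243) : vc5 m = vc5 n ↔ m = n :=
  ⟨fun h => by rw [← cd5_vc5 n hn, ← h, cd5_vc5 m hm], fun h => by rw [h]⟩

/-- the form on codes -/
def nq5 (a n m : ℕ) : ℕ :=
  (n * m + n / 3 * (m / 3) + n / 9 * (m / 9) + n / 27 * (m / 27) + a * (n / 81 * (m / 81))) % 3

/-- the code of `m + c n` -/
def nr5 (c n m : ℕ) : ℕ := (m + c * n) % 3 + 3 * ((m / 3 + c * (n / 3)) % 3) + 9 * ((m / 9 + c * (n / 9)) % 3) +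
  27 * ((m / 27 + c * (n / 27)) % 3) + 81 * ((m / 81 + c * (n / 81)) % 3)

theorem nr5_lt (c n m : ℕ) : nr5 c n m < 243 := by unfold nr5; omega

theorem vc5_nr5 (c n m : ℕ) : vc5 (nr5 c n m) = vc5 m + (c : ZMod 3) • vc5 n := by
  have h : ∀ i : Fin 5, nr5 c n m / 3 ^ i.val % 3 = (m / 3 ^ i.val + c * (n / 3 ^ i.val)) % 3 := fun i => by
    fin_cases i <;> simp only [nr5, Nat.reducePow, pow_zero, pow_one, Nat.div_one] <;> omega
  ext i
  rw [vc5, ← ZMod.natCast_mod, h, ZMod.natCast_mod]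
  simp [vc5]

theorem vc5_neg (n : ℕ) : -vc5 n = vc5 (nr5 2 n 0) := by
  rw [vc5_nr5]; ext i
  have : ∀ a : ZMod 3, -a = 2 * a := by decide
  simpa [vc5] using this _

/-- the form with last weight `a` -/
def fq5 (a : ZMod 3) (u v : Fin 5 → ZMod 3) : ZMod 3 := u 0 * v 0 + u 1 * v 1 + u 2 * v 2 + u 3 * v 3 + a * (u 4 * v 4)

/-- the form with 36 points -/
noncomputable def wq5 : QuadraticForm (ZMod 3) (Fin 5 → ZMod 3) :=
  weightedSumSquares (ZMod 3) (![1, 1, 1, 1, 2] : Fin 5 → ZMod 3)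

theorem wq5_apply (v : Fin 5 → ZMod 3) : wq5 v = fq5 2 v v := by
  simp [wq5, weightedSumSquares_apply, Fin.sum_univ_five, fq5]

theorem polar_wq5 (u v : Fin 5 → ZMod 3) : polar wq5 u v = 2 * fq5 2 u v := by
  simp only [polar, wq5_apply, fq5, Pi.add_apply]; ring

theorem wq5_nondegenerate : (polarBilin wq5).Nondegenerate := by
  refine nondegenerate_of_polar fun x hx => funext fun i => ?_
  have := hx (Pi.single i 1)
  rw [polar_wq5] at this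
  fin_cases i <;> simpa [fq5, z3_two_ne_zero] using this

theorem sq3_five (v : Fin 5 → ZMod 3) : sq3 5 v = fq5 1 v v := by
  simp [sq3_apply, Fin.sum_univ_five, fq5]

theorem polar_sq3_five (u v : Fin 5 → ZMod 3) : polar (sq3 5) u v = 2 * fq5 1 u v := by
  simp [polar_sq3, Fin.sum_univ_five, fq5]

theorem fq5_vc5 (a n m : ℕ) : fq5 a (vc5 n) (vc5 m) = (nq5 a n m : ℕ) := by
  simp [nq5, fq5, vc5]

theorem fq5_eq_one {a n : ℕ} : fq5 a (vc5 n) (vc5 n) = 1 ↔ nq5 a n n = 1 := by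
  have : ∀ k < 3, ((k : ℕ) : ZMod 3) = 1 ↔ k = 1 := by decide
  rw [fq5_vc5, this (nq5 a n n) (Nat.mod_lt _ (by norm_num))]

theorem vc5_refl (a n m : ℕ) : vc5 m - (1 * (2 * fq5 a (vc5 n) (vc5 m))) • vc5 n = vc5 (nr5 (nq5 a n m) n m) := by
  have : ∀ t : ZMod 3, 1 * (2 * t) = -t := by decide
  rw [vc5_nr5, fq5_vc5, this, neg_smul, sub_neg_eq_add]

def omTab : ℕ := 0x10000000000000e000160004d27c0000000000000c00000000000018000d80033cbf00000b0003872800008c0026be202c840a64000000000000000000600000000000030000cc0036ff200000000000003800000000000040001300059f4800009800238af00000e0002ca1c0929021b00000034e40c7c00000071101950000000000000000002051901170000003cc40e74000000000000000000800000000000028000000000000a0000500014d340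

def uTab : ℕ := 0xc40000ed219d000000d9000031b98400691100447d000000000000c100007924e9000000bd0000346d8100dd1400419900000000e5d500659000000000d0950075b5000000000000000000000000500000340000bd816d000000790000c1e9240099410014dd000000000000310000d984b9000000ed0000c49d21007d4400116900000000b5750095d000000000906500d5e500000000000000000000000050ad5900a90d00000000095d00fdf900000000000000000000000005f9fd005d09000000000da90059ad000000000000000000000000050000000000000000550000000000000000550000a50000a5f5f500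

/-- a bit -/
def tbit (t k : ℕ) : ZMod 2 := if t.testBit k then 1 else 0

theorem tbit_xor (s t k : ℕ) : tbit (s ^^^ t) k = tbit s k + tbit t k := by
  simp only [tbit, Nat.testBit_xor]
  cases s.testBit k <;> cases t.testBit k <;> rfl

def w6 (k : ℕ) : (Fin 2 ⊕ Fin 2) ⊕ Fin 2 → ZMod 2 :=
  Sum.elim (Sum.elim (fun i => tbit k i) fun i => tbit k (2 + i)) fun i => tbit k (4 + i)

theorem w6_xor (k l : ℕ) : w6 (k ^^^ l) = w6 k + w6 l := by
  ext ((i | i) | i) <;> exact tbit_xor _ _ _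

def omC (n : ℕ) : ℕ := omTab >>> (6 * n) % 64

def g4 (a : ℕ) : GF4 := ⟨tbit a 0, tbit a 1⟩

theorem g4_xor (a b : ℕ) : g4 (a ^^^ b) = g4 a + g4 b := by
  ext <;> exact tbit_xor _ _ _

theorem g4_mod (a : ℕ) : g4 (a % 4) = g4 a := by
  simp only [g4, tbit, show 4 = 2 ^ 2 from rfl, Nat.testBit_mod_two_pow]; rfl

def m4 (a b : ℕ) : ℕ := 2625168384 >>> (2 * (4 * (a % 4) + b % 4)) % 4

theorem g4_m4 (a b : ℕ) : g4 (m4 a b) = g4 a * g4 b := by
  have key : ∀ a < 4, ∀ b < 4, g4 (2625168384 >>> (2 * (4 * a + b)) % 4) = g4 a * g4 b := by decide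
  rw [m4, key _ (Nat.mod_lt _ (by norm_num)) _ (Nat.mod_lt _ (by norm_num)), g4_mod, g4_mod]

def u4 (k : ℕ) : Fin 4 → GF4 := fun i => g4 (k >>> (2 * i.val))

theorem u4_xor (k l : ℕ) : u4 (k ^^^ l) = u4 k + u4 l := by
  ext i : 1; rw [u4, Nat.shiftRight_xor_distrib, g4_xor]; rfl

def sm4 (a k : ℕ) : ℕ := m4 a k + 4 * m4 a (k >>> 2) + 16 * m4 a (k >>> 4) + 64 * m4 a (k >>> 6)

theorem m4_lt (a b : ℕ) : m4 a b < 4 := Nat.mod_lt _ (by norm_num)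

theorem u4_sm4 (a k : ℕ) : u4 (sm4 a k) = g4 a • u4 k := by
  have h : ∀ i : Fin 4, sm4 a k >>> (2 * i.val) % 4 = m4 a (k >>> (2 * i.val)) := fun i => by
    have := m4_lt a k
    have := m4_lt a (k >>> 2)
    have := m4_lt a (k >>> 4)
    have := m4_lt a (k >>> 6)
    rw [Nat.shiftRight_eq_div_pow]
    fin_cases i <;> simp only [sm4, Nat.reduceMul, Nat.reducePow, Nat.shiftRight_zero] <;> omega
  ext i : 1
  rw [u4, ← g4_mod, h, g4_m4]; rfl

def h4 (k l : ℕ) : ℕ := m4 k (m4 l l) ^^^ m4 (k >>> 2) (m4 (l >>> 2) (l >>> 2)) ^^^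
  m4 (k >>> 4) (m4 (l >>> 4) (l >>> 4)) ^^^ m4 (k >>> 6) (m4 (l >>> 6) (l >>> 6))

theorem hf_u4 (k l : ℕ) : hf (u4 k) (u4 l) = g4 (h4 k l) := by
  simp only [hf_apply, Fin.sum_univ_four, h4, g4_xor, g4_m4, pow_two]; rfl

def uC (n : ℕ) : ℕ := uTab >>> (8 * n) % 256

/-- the minus type form -/
def fq6 (v : (Fin 2 ⊕ Fin 2) ⊕ Fin 2 → ZMod 2) : ZMod 2 :=
  v (.inl (.inl 0)) * v (.inl (.inr 0)) + v (.inl (.inl 1)) * v (.inl (.inr 1)) +
    (v (.inr 0) * v (.inr 0) + v (.inr 0) * v (.inr 1) + v (.inr 1) * v (.inr 1))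

theorem qMinus_two (v : (Fin 2 ⊕ Fin 2) ⊕ Fin 2 → ZMod 2) : qMinus 2 (1 : ZMod 2) 1 v = fq6 v := by
  simp [coe_qMinus, quadFormMinus, fq6, pow_two]

def nq6 (k : ℕ) : ℕ := (k * (k / 4) + k / 2 * (k / 8) + k / 16 + k / 16 * (k / 32) + k / 32) % 2

theorem fq6_w6 : ∀ k < 64, fq6 (w6 k) = (nq6 k : ℕ) := by decide +kernel

theorem w6_inj : ∀ k < 64, w6 k = 0 → k = 0 := by decide +kernel

theorem w6_surj : ∀ a b c d e f : ZMod 2, ∃ k < 64, w6 k = Sum.elim (Sum.elim ![a, b] ![c, d]) ![e, f] := by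
  decide +kernel

theorem u4_inj : ∀ k < 256, u4 k = 0 → k = 0 := by decide +kernel

theorem g4_surj : ∀ a : GF4, ∃ k < 4, g4 k = a := by decide

theorem g4_inj : ∀ k < 4, g4 k = 0 → k = 0 := by decide

theorem om_one : ∀ n < 243, nq5 2 n n = 1 → nq6 (omC n) = 1 ∧ ∀ m < 243, nq5 2 m m = 1 →
    (omC n = omC m ↔ m = n ∨ m = nr5 2 n 0) ∧ omC (nr5 (nq5 2 n m) n m) =
      if (nq6 (omC n ^^^ omC m) + nq6 (omC n) + nq6 (omC m)) % 2 = 0 then omC m else omC m ^^^ omC n := by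
  decide +kernel

theorem om_two : ∀ k < 64, nq6 k = 1 → ∃ n < 243, nq5 2 n n = 1 ∧ omC n = k := by decide +kernel

theorem u_one : ∀ n < 243, nq5 1 n n = 1 → (uC n ≠ 0 ∧ h4 (uC n) (uC n) = 0) ∧ ∀ m < 243, nq5 1 m m = 1 →
    ((∃ a < 4, uC n = sm4 a (uC m)) ↔ m = n ∨ m = nr5 2 n 0) ∧
      ∃ a < 4, uC m ^^^ sm4 (h4 (uC m) (uC n)) (uC n) = sm4 a (uC (nr5 (nq5 1 n m) n m)) := by
  decide +kernel

theorem u_two : ∀ k < 256, k ≠ 0 → h4 k k = 0 → ∃ n < 243, nq5 1 n n = 1 ∧ ∃ a < 4, uC n = sm4 a k := by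
  decide +kernel

theorem w6_eq_iff {k l : ℕ} (hk : k < 64) (hl : l < 64) : w6 k = w6 l ↔ k = l := by
  refine ⟨fun h => Nat.xor_eq_zero_iff.1 (w6_inj _ (Nat.xor_lt_two_pow (n := 6) hk hl) ?_), fun h => by rw [h]⟩
  rw [w6_xor, h]; ext i; exact CharTwo.add_self_eq_zero _

theorem u4_eq_iff {k l : ℕ} (hk : k < 256) (hl : l < 256) : u4 k = u4 l ↔ k = l := by
  refine ⟨fun h => Nat.xor_eq_zero_iff.1 (u4_inj _ (Nat.xor_lt_two_pow (n := 8) hk hl) ?_), fun h => by rw [h]⟩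
  rw [u4_xor, h, vec_add_self]

theorem sm4_lt (a k : ℕ) : sm4 a k < 256 := by
  have := m4_lt a k
  have := m4_lt a (k >>> 2)
  have := m4_lt a (k >>> 4)
  have := m4_lt a (k >>> 6)
  unfold sm4; omega

theorem u4_smul_iff {k : ℕ} (hk : k < 256) (l : ℕ) : (∃ a : GF4, u4 k = a • u4 l) ↔ ∃ a < 4, k = sm4 a l := by
  refine ⟨fun ⟨a, h⟩ => ?_, fun ⟨a, _, h⟩ => ⟨g4 a, by rw [h, u4_sm4]⟩⟩
  obtain ⟨a, ha, rfl⟩ := g4_surj a
  exact ⟨a, ha, (u4_eq_iff hk (sm4_lt _ _)).1 (by rw [h, u4_sm4])⟩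

theorem u4_surj (v : Fin 4 → GF4) : ∃ k < 256, u4 k = v := by
  choose f h1 h2 using fun i => g4_surj (v i)
  have := h1 0
  have := h1 1
  have := h1 2
  have := h1 3
  refine ⟨f 0 + 4 * f 1 + 16 * f 2 + 64 * f 3, by omega, funext fun i => ?_⟩
  rw [u4, ← g4_mod, ← h2, Nat.shiftRight_eq_div_pow]
  congr 1
  fin_cases i <;> simp only [Nat.reduceMul, Nat.reducePow, Fin.zero_eta, Fin.mk_one, Fin.reduceFinMk] <;> omega

variable {G : Type*} [Group G] {E : Set G}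

theorem OMT.o3t (h : OMT E 2) (hE : IsThreeTranspositionSet E) : O3T E 5 := by
  obtain ⟨p, T⟩ := h
  have lt : ∀ n, omC n < 64 := fun n => Nat.mod_lt _ (by norm_num)
  have one : ∀ {n}, wq5 (vc5 n) = 1 ↔ nq5 2 n n = 1 := fun {n} => by rw [wq5_apply]; exact fq5_eq_one (a := 2)
  have hm : ∀ v, wq5 v = 1 → w6 (omC (cd5 v)) ∈ {v | qMinus 2 (1 : ZMod 2) 1 v = 1} := fun v hv => by
    obtain ⟨n, hn, rfl⟩ := exists_vc5 v
    rw [Set.mem_ofPred_eq, qMinus_two, fq6_w6 _ (lt _), cd5_vc5 n hn, (om_one n hn (one.1 hv)).1]; rfl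
  refine ⟨wq5, wq5_nondegenerate, fun v => p (w6 (omC (cd5 v))), fun v hv => T.mem _ (hm v hv), fun x hx => ?_,
    fun u v hu hv => ?_, fun u v hu hv => ?_, fun v hv => hE.1 _ (T.mem _ (hm v hv))⟩
  · obtain ⟨v, hv, rfl⟩ := T.surj x hx
    have e : v = Sum.elim (Sum.elim ![v (.inl (.inl 0)), v (.inl (.inl 1))] ![v (.inl (.inr 0)), v (.inl (.inr 1))])
        ![v (.inr 0), v (.inr 1)] := by
      ext ((i | i) | i) <;> fin_cases i <;> rfl
    obtain ⟨k, hk, rfl⟩ : ∃ k < 64, w6 k = v := e ▸ w6_surj _ _ _ _ _ _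
    have key : ∀ k < 2, ((k : ℕ) : ZMod 2) = 1 → k = 1 := by decide
    obtain ⟨n, hn, h1, rfl⟩ := om_two k hk (key _ (Nat.mod_lt _ (by norm_num))
      ((fq6_w6 k hk).symm.trans ((qMinus_two _).symm.trans hv)))
    exact ⟨vc5 n, one.2 h1, by rw [cd5_vc5 n hn]⟩
  · rw [T.inj.eq_iff (hm u hu) (hm v hv)]
    obtain ⟨n, hn, rfl⟩ := exists_vc5 u
    obtain ⟨m, hm, rfl⟩ := exists_vc5 v
    rw [w6_eq_iff (lt _) (lt _), cd5_vc5 n hn, cd5_vc5 m hm, vc5_neg, vc5_inj hn hm, vc5_inj (nr5_lt _ _ _) hm]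
    exact ((om_one n hn (one.1 hu)).2 m hm (one.1 hv)).1
  · rw [T.conj _ (hm u hu) _ (hm v hv), polarBilin_apply_apply, polar, qMinus_two, qMinus_two, qMinus_two, polar_wq5]
    obtain ⟨n, hn, rfl⟩ := exists_vc5 u
    obtain ⟨m, hm, rfl⟩ := exists_vc5 v
    have key : ∀ a < 2, ∀ b < 2, ∀ c < 2, ((a : ℕ) : ZMod 2) - (b : ℕ) - (c : ℕ) =
      if (a + b + c) % 2 = 0 then 0 else 1 := by decide
    have l2 : ∀ k, nq6 k < 2 := fun k => Nat.mod_lt _ (by norm_num)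
    rw [show _ - (1 * (2 * fq5 2 _ _)) • vc5 n = _ from vc5_refl 2 n m, cd5_vc5 n hn, cd5_vc5 m hm, cd5_vc5 _ (nr5_lt _ _ _),
      ((om_one n hn (one.1 hu)).2 m hm (one.1 hv)).2, ← w6_xor, fq6_w6 _ (lt _), fq6_w6 _ (lt _),
      fq6_w6 _ (Nat.xor_lt_two_pow (n := 6) (lt _) (lt _)), key _ (l2 _) _ (l2 _) _ (l2 _)]
    split_ifs <;> simp [w6_xor]

theorem UT.o3d (h : UT E 4) (hE : IsThreeTranspositionSet E) : O3D E 5 := by
  obtain ⟨p, T⟩ := h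
  have lt : ∀ n, uC n < 256 := fun n => Nat.mod_lt _ (by norm_num)
  have one : ∀ {n}, sq3 5 (vc5 n) = 1 ↔ nq5 1 n n = 1 := fun {n} => by rw [sq3_five]; exact fq5_eq_one (a := 1)
  have z : u4 0 = 0 := by decide
  have hm : ∀ v, sq3 5 v = 1 → Iso (u4 (uC (cd5 v))) := fun v hv => by
    obtain ⟨n, hn, rfl⟩ := exists_vc5 v
    have := (u_one n hn (one.1 hv)).1
    rw [cd5_vc5 n hn]
    exact ⟨fun e => this.1 (u4_inj _ (lt _) e), by rw [hf_u4, this.2]; rfl⟩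
  refine ⟨fun v => p (u4 (uC (cd5 v))), fun v hv => T.mem _ (hm v hv), fun x hx => ?_, fun u v hu hv => ?_,
    fun u v hu hv => ?_, fun v hv => hE.1 _ (T.mem _ (hm v hv))⟩
  · obtain ⟨v, hv, rfl⟩ := T.surj x hx
    obtain ⟨k, hk, rfl⟩ := u4_surj v
    have l : h4 k k < 2 ^ 2 :=
      Nat.xor_lt_two_pow (Nat.xor_lt_two_pow (Nat.xor_lt_two_pow (m4_lt _ _) (m4_lt _ _)) (m4_lt _ _)) (m4_lt _ _)
    obtain ⟨n, hn, h1, h2⟩ := u_two k hk (by rintro rfl; exact hv.1 z) (g4_inj _ l ((hf_u4 k k).symm.trans hv.2))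
    exact ⟨vc5 n, one.2 h1, (T.inj _ _ (hm _ (one.2 h1)) hv).2 (by rw [cd5_vc5 n hn]; exact (u4_smul_iff (lt _) _).2 h2)⟩
  · rw [T.inj _ _ (hm u hu) (hm v hv)]
    obtain ⟨n, hn, rfl⟩ := exists_vc5 u
    obtain ⟨m, hm, rfl⟩ := exists_vc5 v
    rw [u4_smul_iff (lt _), cd5_vc5 n hn, cd5_vc5 m hm, vc5_neg, vc5_inj hn hm, vc5_inj (nr5_lt _ _ _) hm]
    exact ((u_one n hn (one.1 hu)).2 m hm (one.1 hv)).1
  · rw [T.conj _ _ (hm u hu) (hm v hv), T.inj _ _ ((hm u hu).conj (hm v hv)) (hm _ ((Q_refl3 hu).trans hv)),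
      polar_sq3_five]
    obtain ⟨n, hn, rfl⟩ := exists_vc5 u
    obtain ⟨m, hm, rfl⟩ := exists_vc5 v
    rw [show _ - (1 * (2 * fq5 1 _ _)) • vc5 n = _ from vc5_refl 1 n m, cd5_vc5 n hn, cd5_vc5 m hm, cd5_vc5 _ (nr5_lt _ _ _), hf_u4,
      ← u4_sm4, ← u4_xor, u4_smul_iff (Nat.xor_lt_two_pow (n := 8) (lt _) (sm4_lt _ _))]
    exact ((u_one n hn (one.1 hu)).2 m hm (one.1 hv)).2

end CfsgLib.FTHM
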