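import Mathlib
import Cfsg.Agent.Lib.FTHM.Ident

/-!
# Fischer's theorem: when the local group is not solvable
-/

set_option autoImplicit false

namespace CfsgLib.FTHM

open Cfsg Subgroup CfsgLib.ThreeTrans CfsgLib.Orth QuadraticMap Equiv
open CfsgLib.Classical (GF4)
open CfsgLib.Forms (spB)

variable {G : Type*} [Group G] {E : Set G}

/-- a string of length four commuting with a further member -/
def Str5 (E : Set G) : Prop :=
  ∃ d ∈ E, ∃ a ∈ E, ∃ b ∈ E, ∃ c ∈ E, ∃ e ∈ E, Commute d a ∧ Commute d b ∧ Commute d c ∧ Commute d e ∧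
    ¬ Commute a b ∧ ¬ Commute b c ∧ ¬ Commute c e ∧ Commute a c ∧ Commute a e ∧ Commute b e

theorem Str5.mono {X : Set G} (h : Str5 X) (hX : X ⊆ E) : Str5 E := by
  obtain ⟨d, hd, a, ha, b, hb, c, hc, e, he, H⟩ := h
  exact ⟨d, hX hd, a, hX ha, b, hX hb, c, hX hc, e, hX he, H⟩

theorem Str5.not_solvable (h : Str5 E) (hE : TT E) (hs : SConn E) {x : G} (hx : x ∈ E) :
    ¬ Group.IsSolvable (closure (perp E x)) := by
  obtain ⟨d, hd, a, ha, b, hb, c, hc, e, he, da, db, dc, de, ab, bc, ce, ac, ae, be⟩ := h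
  obtain ⟨g, hg, rfl⟩ := hs.exists_conj hE hd hx
  have k := kiso_perp_conj hE hg d
  have ha' : a ∈ perp E d := ⟨ha, by rintro rfl; exact ab db, da⟩
  have hb' : b ∈ perp E d := ⟨hb, by rintro rfl; exact bc dc, db⟩
  have hc' : c ∈ perp E d := ⟨hc, by rintro rfl; exact ce de, dc⟩
  have he' : e ∈ perp E d := ⟨he, by rintro rfl; exact ce dc.symm, de⟩
  obtain ⟨φ, h1, h2, -⟩ := exists_sym5 (hE.perp' _) (k.mem ha') (k.mem hb') (k.mem hc') (k.mem he')
    (by rwa [commute_conj_iff]) (by rwa [commute_conj_iff]) (by rwa [commute_conj_iff]) (by rwa [commute_conj_iff])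
    (by rwa [commute_conj_iff]) (by rwa [commute_conj_iff])
    (fun h => ce (by rwa [← (k.inj ha' hc').1 h]))
  intro hsol
  have hle : φ.range ≤ closure (perp E (g * d * g⁻¹)) := by rw [← closure_swaps]; exact closure_mono h2
  exact Perm.not_isSolvable_fin_5 (Group.isSolvable_of_isSolvable_injective
    (f := φ.codRestrict _ fun σ => hle ⟨σ, rfl⟩) fun _ _ h => h1 (congrArg Subtype.val h))

theorem SymT.str5 {n : ℕ} (T : SymT E n) (hn : 7 ≤ n) : Str5 E := by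
  obtain ⟨φ, h1, rfl⟩ := symT_iff.1 T
  let i : Fin 7 → Fin n := Fin.castLE hn
  have hi : ∀ a b, i a = i b ↔ a = b := fun a b => (Fin.castLE_injective hn).eq_iff
  have m : ∀ a b, a ≠ b → φ (swap (i a) (i b)) ∈ swaps φ := fun a b h => mem_swaps φ (by rwa [Ne, hi])
  have c : ∀ a b k l, a ≠ b → (Commute (φ (swap (i a) (i b))) (φ (swap (i k) (i l))) ↔
      ((k = a ∨ k = b) ↔ (l = a ∨ l = b))) := fun a b k l h => by
    rw [commute_swap_map h1 (by rwa [Ne, hi])]; simp only [hi]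
  refine ⟨_, m 0 1 (by decide), _, m 2 3 (by decide), _, m 3 4 (by decide), _, m 4 5 (by decide), _,
    m 5 6 (by decide), ?_, ?_, ?_, ?_, ?_, ?_, ?_, ?_, ?_, ?_⟩ <;> rw [c _ _ _ _ (by decide)] <;> decide

section two
variable {V : Type*} [AddCommGroup V] [Module (ZMod 2) V]

theorem BTable.str5 {B : LinearMap.BilinForm (ZMod 2) V} {P : Set V} {p : V → G} (T : BTable B P E p)
    {d a b c e : V} (hd : d ∈ P) (ha : a ∈ P) (hb : b ∈ P) (hc : c ∈ P) (he : e ∈ P) (h1 : B d a = 0)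
    (h2 : B d b = 0) (h3 : B d c = 0) (h4 : B d e = 0) (h5 : B a b = 1) (h6 : B b c = 1) (h7 : B c e = 1)
    (h8 : B a c = 0) (h9 : B a e = 0) (h10 : B b e = 0) : Str5 E :=
  ⟨_, T.mem _ hd, _, T.mem _ ha, _, T.mem _ hb, _, T.mem _ hc, _, T.mem _ he, (T.comm _ hd _ ha).2 h1,
    (T.comm _ hd _ hb).2 h2, (T.comm _ hd _ hc).2 h3, (T.comm _ hd _ he).2 h4, (T.not_comm ha hb).2 h5,
    (T.not_comm hb hc).2 h6, (T.not_comm hc he).2 h7, (T.comm _ ha _ hc).2 h8, (T.comm _ ha _ he).2 h9,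
    (T.comm _ hb _ he).2 h10⟩

theorem BTable.str5_quad {Q : QuadraticForm (ZMod 2) V} {p : V → G} (T : BTable (polarBilin Q) {v | Q v = 1} E p)
    {d e f e' f' : V} (hd : Q d = 1) (he : Q e = 0) (hf : Q f = 0) (he' : Q e' = 0) (hf' : Q f' = 0)
    (h1 : polar Q d e = 0) (h2 : polar Q d f = 0) (h3 : polar Q d e' = 0) (h4 : polar Q d f' = 0)
    (h5 : polar Q e f = 1) (h6 : polar Q e' f' = 1) (h7 : polar Q e e' = 0) (h8 : polar Q e f' = 0)
    (h9 : polar Q f e' = 0) (h10 : polar Q f f' = 0) : Str5 E := by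
  have s : ∀ v, polar Q v v = 0 := fun v => by rw [polar_self', z2_two, zero_mul]
  refine T.str5 (d := d) (a := d + e) (b := d + f) (c := d + (e + e')) (e := d + f') hd ?_ ?_ ?_ ?_ ?_ ?_ ?_ ?_ ?_ ?_
    ?_ ?_ ?_ ?_ <;>
  simp only [Set.mem_ofPred_eq, polarBilin_apply_apply, Q_add, polar_add_left, polar_add_right, polar_comm Q e d,
    polar_comm Q f d, polar_comm Q e' d, polar_comm Q f e, *, add_zero, zero_add]

end two

theorem SpT.str5 {m : ℕ} (T : SpT E m) (hm : 3 ≤ m) : Str5 E := by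
  obtain ⟨p, T⟩ := T
  let i : Fin 3 → Fin m := Fin.castLE hm
  have hi : ∀ a b, i a = i b ↔ a = b := fun a b => (Fin.castLE_injective hm).eq_iff
  refine T.str5 (d := Pi.single (.inl (i 0)) 1) (a := Pi.single (.inl (i 1)) 1) (b := Pi.single (.inr (i 1)) 1)
    (c := Pi.single (.inl (i 1)) 1 + Pi.single (.inl (i 2)) 1) (e := Pi.single (.inr (i 2)) 1) (by simp) (by simp)
    (by simp) (fun e => ?_) (by simp) ?_ ?_ ?_ ?_ ?_ ?_ ?_ ?_ ?_ ?_
  · simpa [hi] using congrFun e (.inl (i 1))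
  all_goals
    simp [map_add, Forms.spB_single_inl_right, Forms.spB_single_inr_right, hi]

theorem OPT.str5 {m : ℕ} (T : OPT E m) (hm : 3 ≤ m) : Str5 E := by
  obtain ⟨p, T⟩ := T
  let i : Fin 3 → Fin m := Fin.castLE hm
  have hi : ∀ a b, i a = i b ↔ a = b := fun a b => (Fin.castLE_injective hm).eq_iff
  refine T.str5_quad (d := Pi.single (.inl (i 0)) 1 + Pi.single (.inr (i 0)) 1) (e := Pi.single (.inl (i 1)) 1)
    (f := Pi.single (.inr (i 1)) 1) (e' := Pi.single (.inl (i 2)) 1) (f' := Pi.single (.inr (i 2)) 1)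
    ?_ ?_ ?_ ?_ ?_ ?_ ?_ ?_ ?_ ?_ ?_ ?_ ?_ ?_ ?_
  all_goals
    simp [Q_add, qPlus_single_inl, qPlus_single_inr, polar_qPlus_single_inl, polar_qPlus_single_inr, hi]

theorem OMT.str5 {m : ℕ} (T : OMT E m) (hm : 2 ≤ m) : Str5 E := by
  obtain ⟨p, T⟩ := T
  let i : Fin 2 → Fin m := Fin.castLE hm
  have hi : ∀ a b, i a = i b ↔ a = b := fun a b => (Fin.castLE_injective hm).eq_iff
  have ap : ∀ v, qMinus m (1 : ZMod 2) 1 v = (∑ i : Fin m, v (.inl (.inl i)) * v (.inl (.inr i))) +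
      (v (.inr 0) ^ 2 + 1 * v (.inr 0) * v (.inr 1) + 1 * v (.inr 1) ^ 2) := fun _ => rfl
  refine T.str5_quad (d := Pi.single (.inr 0) 1) (e := Pi.single (.inl (.inl (i 0))) 1)
    (f := Pi.single (.inl (.inr (i 0))) 1) (e' := Pi.single (.inl (.inl (i 1))) 1)
    (f' := Pi.single (.inl (.inr (i 1))) 1) ?_ ?_ ?_ ?_ ?_ ?_ ?_ ?_ ?_ ?_ ?_ ?_ ?_ ?_ ?_
  all_goals simp [polar, ap, hi, Pi.single_apply]

/-- extension by zero -/
def ext6 (k : ℕ) (v : Fin 6 → GF4) : Fin (6 + k) → GF4 := Fin.append v 0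

theorem hf_ext6 (k : ℕ) (u v : Fin 6 → GF4) : hf (ext6 k u) (ext6 k v) = hf u v := by
  simp [hf_apply, ext6, Fin.sum_univ_add]

theorem iso_ext6 (k : ℕ) {v : Fin 6 → GF4} (h0 : v ≠ 0) (h : hf v v = 0) : Iso (ext6 k v) :=
  ⟨fun e => h0 (funext fun i => by simpa [ext6] using congrFun e (Fin.castAdd k i)), (hf_ext6 k v v).trans h⟩

theorem UT.str5 {n : ℕ} (T : UT E n) (hn : 6 ≤ n) : Str5 E := by
  obtain ⟨k, rfl⟩ := Nat.exists_eq_add_of_le hn
  obtain ⟨p, T⟩ := T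
  have i0 := iso_ext6 k (v := ![1, 1, 0, 0, 0, 0]) (by decide) (by decide)
  have i1 := iso_ext6 k (v := ![0, 0, 1, 1, 0, 0]) (by decide) (by decide)
  have i2 := iso_ext6 k (v := ![0, 0, 0, 1, 1, 0]) (by decide) (by decide)
  have i3 := iso_ext6 k (v := ![0, 0, 0, 0, 1, 1]) (by decide) (by decide)
  have i4 := iso_ext6 k (v := ![0, 0, 1, 1, 1, om]) (by decide) (by decide)
  refine ⟨_, T.mem _ i0, _, T.mem _ i1, _, T.mem _ i2, _, T.mem _ i3, _, T.mem _ i4,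
    ?_, ?_, ?_, ?_, ?_, ?_, ?_, ?_, ?_, ?_⟩ <;> rw [T.comm _ _ (by assumption) (by assumption), hf_ext6] <;> decide

theorem Loc.str5 {r : ℕ} : ∀ {E : Set G}, Loc r E → Str5 E := by
  induction r with
  | zero => exact fun h => UT.str5 h le_rfl
  | succ r ih =>
    intro E h
    obtain ⟨d, hd⟩ := h.1.toKCls.nonempty
    exact (ih (h.2 d hd)).mono (perp_subset _ _)

section three

theorem rtable_str5 {V : Type*} [AddCommGroup V] [Module (ZMod 3) V] {Q : QuadraticForm (ZMod 3) V} {p : V → G}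
    (T : RTable Q 1 E p) {d x y z w : V} (hd : Q d = 1) (hx : Q x = 1) (hy : Q y = 1) (hz : Q z = -1) (hw : Q w = 1)
    (h1 : polar Q d x = 0) (h2 : polar Q d y = 0) (h3 : polar Q d z = 0) (h4 : polar Q d w = 0)
    (h5 : polar Q x y = 0) (h6 : polar Q x z = 0) (h7 : polar Q x w = 0) (h8 : polar Q y z = 0)
    (h9 : polar Q y w = 0) (h10 : polar Q z w = 0) : Str5 E := by
  have hb : Q (x + y + z) = 1 := by simp [Q_add, *]
  have he : Q (y + z + w) = 1 := by simp [Q_add, *]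
  have c1 : ∀ u v, Q u = 1 → Q v = 1 → polar Q u v = 0 → Commute (p u) (p v) := fun u v hu hv h =>
    (T.commute_iff one_ne_zero hu hv).2 (Or.inl h)
  have c2 : ∀ u v t, Q u = 1 → Q v = 1 → polar Q u v ≠ 0 → polar Q t u = 0 → polar Q t v ≠ 0 →
      ¬ Commute (p u) (p v) := fun u v t hu hv h a b hc => by
    rcases (T.commute_iff one_ne_zero hu hv).1 hc with h' | rfl | rfl
    · exact h h'
    · exact b a
    · exact b (by rw [polar_neg_right, a, neg_zero])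
  refine ⟨_, T.mem _ hd, _, T.mem _ hx, _, T.mem _ hb, _, T.mem _ hy, _, T.mem _ he, c1 _ _ hd hx h1, c1 _ _ hd hb ?_,
    c1 _ _ hd hy h2, c1 _ _ hd he ?_, c2 _ _ y hx hb ?_ ?_ ?_, fun h => c2 _ _ x hy hb ?_ h5 ?_ h.symm,
    c2 _ _ w hy he ?_ ?_ ?_, c1 _ _ hx hy h5, c1 _ _ hx he ?_, c1 _ _ hb he ?_⟩ <;>
  simp only [polar_add_left, polar_add_right, polar_self', polar_comm Q y x, polar_comm Q w y, polar_comm Q w z,
    polar_comm Q z y, *] <;> decide

/-- the diagonal form with first coefficient `-1` -/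
noncomputable def sq3' (n : ℕ) : QuadraticForm (ZMod 3) (Fin (n + 1) → ZMod 3) :=
  weightedSumSquares (ZMod 3) fun i : Fin (n + 1) => if i = 0 then (-1 : ZMod 3) else 1

theorem sq3'_apply (n : ℕ) (v : Fin (n + 1) → ZMod 3) :
    sq3' n v = ∑ i, (if i = 0 then (-1 : ZMod 3) else 1) * (v i * v i) := by
  simp only [sq3', weightedSumSquares_apply, smul_eq_mul]

theorem polar_sq3' (n : ℕ) (u : Fin (n + 1) → ZMod 3) (i : Fin (n + 1)) :
    polar (sq3' n) u (Pi.single i 1) = (if i = 0 then (1 : ZMod 3) else -1) * u i := by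
  simp only [polar, sq3'_apply, Pi.add_apply, ← Finset.sum_sub_distrib]
  rw [Finset.sum_eq_single i (fun j _ hj => by simp [hj]) (by simp), Pi.single_eq_same]
  have h3 : (3 : ZMod 3) = 0 := rfl
  split_ifs
  · linear_combination (-u i) * h3
  · linear_combination (u i) * h3

theorem sq3'_single (n : ℕ) (i : Fin (n + 1)) : sq3' n (Pi.single i 1) = if i = 0 then -1 else 1 := by
  rw [sq3'_apply, Finset.sum_eq_single i (fun j _ hj => by simp [hj]) (by simp)]; simp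

theorem sq3'_nondegenerate (n : ℕ) : (polarBilin (sq3' n)).Nondegenerate := by
  refine nondegenerate_of_polar fun x hx => funext fun i => ?_
  have := hx (Pi.single i 1)
  rw [polar_sq3'] at this
  split_ifs at this <;> simpa using this

theorem gram_sq3' (n : ℕ) : (gram (sq3' n) (Pi.basisFun (ZMod 3) (Fin (n + 1)))).det = (-1) ^ n := by
  have : gram (sq3' n) (Pi.basisFun (ZMod 3) (Fin (n + 1))) =
      Matrix.diagonal fun i => if i = 0 then (1 : ZMod 3) else -1 := by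
    ext i j
    simp only [gram, Matrix.of_apply, Pi.basisFun_apply, polar_sq3', Matrix.diagonal_apply, Pi.single_apply]
    by_cases h : i = j
    · subst h; simp
    · simp [h, Ne.symm h]
  rw [this, Matrix.det_diagonal, Fin.prod_univ_succ]; simp

theorem polar_sq3_sgl (n : ℕ) (u : Fin n → ZMod 3) (i : Fin n) : polar (sq3 n) u (Pi.single i 1) = - u i := by
  rw [polar_sq3, Finset.sum_eq_single i (fun j _ hj => by simp [hj]) (by simp), Pi.single_eq_same]
  generalize u i = t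
  revert t; decide

theorem sq3_sgl (n : ℕ) (i : Fin n) : sq3 n (Pi.single i 1) = 1 := by
  rw [sq3_apply, Finset.sum_eq_single i (fun j _ hj => by simp [hj]) (by simp)]; simp

theorem O3T.o3d_or {n : ℕ} (T : O3T E (n + 1)) : O3D E (n + 1) ∨ ∃ p, RTable (sq3' n) 1 E p := by
  obtain ⟨Q, hQ, p, T⟩ := T
  have key : ∀ Q₀ : QuadraticForm (ZMod 3) (Fin (n + 1) → ZMod 3), (polarBilin Q₀).Nondegenerate →
      (gram Q₀ (Pi.basisFun (ZMod 3) (Fin (n + 1)))).det = (gram Q (Pi.basisFun (ZMod 3) (Fin (n + 1)))).det →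
      ∃ p, RTable Q₀ 1 E p := fun Q₀ h0 hd => by
    obtain ⟨e, he⟩ := exists_isometry_of_disc hQ (Pi.basisFun (ZMod 3) (Fin (n + 1))) h0 (by rwa [polarGramDet_eq])
    exact ⟨_, T.comp_equiv e.symm one_ne_zero (fun w => by rw [one_mul, ← one_mul (Q _), ← he]; simp) (one_mul _).symm⟩
  rcases z3_eq_or_eq_neg (det_gram_ne_zero hQ (Pi.basisFun (ZMod 3) (Fin (n + 1))))
    (c := (-1) ^ n) (pow_ne_zero _ (by decide)) with h | h
  · exact Or.inr (key _ (sq3'_nondegenerate n) (by rw [gram_sq3', h]))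
  · exact Or.inl (key _ (sq3_nondegenerate _) (by rw [gram_sq3, h]; ring))

theorem O3D.str5 {n : ℕ} (T : O3D E n) (hn : 6 ≤ n) : Str5 E := by
  obtain ⟨p, T⟩ := T
  let i : Fin 6 → Fin n := Fin.castLE hn
  have hi : ∀ a b, i a = i b ↔ a = b := fun a b => (Fin.castLE_injective hn).eq_iff
  refine rtable_str5 T (d := Pi.single (i 0) 1) (x := Pi.single (i 1) 1) (y := Pi.single (i 2) 1)
    (z := Pi.single (i 4) 1 + Pi.single (i 5) 1) (w := Pi.single (i 3) 1) ?_ ?_ ?_ ?_ ?_ ?_ ?_ ?_ ?_ ?_ ?_ ?_ ?_ ?_ ?_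
  all_goals simp [Q_add, sq3_sgl, polar_sq3_sgl, hi]
  rfl

theorem O3D.locV (T : O3D E 5) : LocV E := by
  obtain ⟨p, T⟩ := T
  have q : ∀ i, sq3 5 (Pi.single i 1) = 1 := sq3_sgl 5
  have m : ∀ i : Fin 5, i ≠ 0 → p (Pi.single i 1) ∈ perp E (p (Pi.single 0 1)) := fun i hi =>
    ⟨T.mem _ (q i), by rw [Ne, T.inj _ _ (q i) (q 0)]; revert i; decide,
      (T.commute_iff one_ne_zero (q 0) (q i)).2 (Or.inl (by simp [polar_sq3_sgl, hi]))⟩
  refine ⟨_, T.mem _ (q 0), _, m 1 (by decide), _, m 2 (by decide), by rw [Ne, T.inj _ _ (q 1) (q 2)]; decide,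
    fun e he => ?_⟩
  obtain ⟨v, hv, rfl⟩ := T.surj e he.1
  have h1 := he.2.1
  have h2 := he.2.2
  rw [Ne, T.inj _ _ hv (q 0)] at h1
  rw [T.commute_iff one_ne_zero (q 0) hv, polar_comm, polar_sq3_sgl] at h2
  rw [T.commute_iff one_ne_zero (q 1) hv, T.commute_iff one_ne_zero (q 2) hv, polar_comm _ _ v, polar_comm _ _ v,
    polar_sq3_sgl, polar_sq3_sgl]
  rw [sq3_apply] at hv
  clear he
  revert v
  decide +kernel

theorem O3T.str5 {n : ℕ} (T : O3T E n) (hn : 5 ≤ n) (hV : ¬ LocV E) : Str5 E := by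
  obtain ⟨n, rfl⟩ : ∃ k, n = k + 1 := ⟨n - 1, by omega⟩
  rcases T.o3d_or with T | ⟨p, T⟩
  · rcases hn.eq_or_lt with h | h
    · rw [← h] at T; exact absurd T.locV hV
    · exact T.str5 h
  · let i : Fin 5 → Fin (n + 1) := Fin.castLE hn
    have hi : ∀ a b, i a = i b ↔ a = b := fun a b => (Fin.castLE_injective hn).eq_iff
    have h0 : ∀ a, i a = 0 ↔ a = 0 := fun a => hi a 0
    refine rtable_str5 T (d := Pi.single (i 1) 1) (x := Pi.single (i 2) 1) (y := Pi.single (i 3) 1)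
      (z := Pi.single (i 0) 1) (w := Pi.single (i 4) 1) ?_ ?_ ?_ ?_ ?_ ?_ ?_ ?_ ?_ ?_ ?_ ?_ ?_ ?_ ?_
    all_goals simp [sq3'_single, polar_sq3', hi, h0]

end three

theorem GenCls.str5 (h : GenCls E) (hV : ¬ LocV E) : Str5 E := by
  rcases h with ⟨n, hn, T⟩ | ⟨n, hn, T⟩ | ⟨n, hn, T⟩ | ⟨n, hn, T⟩ | T | T | T
  exacts [T.str5 hn, T.str5 hn, T.str5 hn, T.str5 hn hV, T.str5, T.str5, T.str5]

end CfsgLib.FTHM
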